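import Mathlib
import Cfsg.Agent.Base
import Cfsg.Agent.Lib.FrobC.QB
import Cfsg.Agent.Lib.GL.Simple

/-!
The icosian model of `SL(2,5)` and the subgroup generated by the elements of order three (helper82).
-/

set_option autoImplicit false

namespace H82

open Finset

/-- The group `SL(2,5)`. -/
abbrev SL25 : Type := Matrix.SpecialLinearGroup (Fin 2) (ZMod 5)

/-- The coded table of icosians. -/
def icoN : ℕ := 0x42443353000000000000000000000000000000000000000046424246000000000000000000000000000000000000000055354644000000000000000000000000000000000000000044535542334644350000000000000000000000000000000000000000000000004646424600000000000000000000000000000000000000000000000055443542000000004442533300000000000000000000000000000000000000000000000033354644000000004253445500000000000000000000000000000000000000000000000000000000555346440000000000000000444653330000000000000000000000000000000000000000000000000000000033443542000000000000000042424246000000000000000046354455000000000000000000000000000000000000000000000000000000000000000044355542000000000000000000000000335346440000000000000000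000000004246424600000000000000000000000046443353000000000000000000000000554244350000000000000000000000000000000033424435000000000000000000000000000000004235445500000000000000000000000000000000465344550000000000000000000000000000000055464435000000000000000000000000000000004444444000000000000000000000000000000000424455530000000000000000000000000000000000000000000000000000000046424242000000000000000035554446000000000000000000000000000000000000000000000000000000004433463500000000000000005346334400000000000000000000000000000000000000004646424200000000000000000000000000000000000000003544465544423533000000000000000000000000000000000000000053554446000000000000000000000000000000000000000042335344000000000000000000000000353344460000000000000000000000004446353300000000000000000000000000000000000000000000000000000000000000005344465500000000000000000000000042424242000000000000000000000000465553440000000000000000000000000000000000000000000000004455463500000000533344460000000000000000000000000000000000000000000000004246424200000000464455530000000000000000000000000000000000000000000000003542334400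000000000000000000000000000000534233440000000000000000000000000000000042555344000000000000000000000000000000004633534400000000000000000000000000000000354633440000000000000000000000000000000044444844000000000000000000000000000000000000000042443335000000004642464600000000000000000000000000000000000000000000000035554442000000000000000000000000000000000000000000000000443342530000000053465544000000000000000000000000464646460000000000000000000000000000000000000000000000000000000000000000354442330000000000000000000000004442535500000000000000000000000053554442000000000000000000000000423335440000000000000000000000000000000000000000353344420000000000000000000000000000000000000000444653550000000000000000000000000000000000000000534442334242464600000000000000000000000000000000000000004655354400000000000000000000000000000000000000000000000000000000445542530000000000000000533344420000000000000000424646460000000000000000000000000000000000000000000000000000000046443335000000000000000035425544000000000000000000000000000000005342554400000000000000000000000000000000425535440000000000000000000000000000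000046333544000000000000000000000000000000003546554400000000000000000000000000000000444440440000000000000000000000000000000000000000424455350000000000000000000000004642464200000000000000000000000055354244000000000000000000000000000000000000000000000000000000000000000044533346000000000000000000000000334644530000000000000000464646420000000000000000000000000000000000000000000000000000000055445346000000000000000044423555000000000000000033354244000000000000000000000000000000000000000000000000000000004253443300000000555342440000000000000000000000000000000000000000000000004446355500000000000000000000000000000000000000000000000033445346000000004242464200000000000000000000000000000000000000000000000046354433000000000000000000000000000000000000000044353346335342440000000000000000000000000000000000000000424646420000000000000000000000000000000000000000464455350000000000000000000000000000000000000000554244530000000000000000000000000000000033424453000000000000000000000000000000004235443300000000000000000000000000000000465344330000000000000000000000000000000055464453000000000000000000000000000000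0044444448000000000000000000000000000000000000000000000000000000000000000000000000000000000000000000000000000000000000000000000000000000004453334244334235443346534453554644484444000000000000000000000000000000000000000000000000000000000000000000000000000000005544534235444255354446335544354640444444000000000000000000000000000000000000000000000000000000000000000000000000000000000000000000000000000000000000000000000000000000000000000000000000000000000000000000000000000000000000000000000000000000003344534253444255534446333344354648444444000000000000000000000000000000000000000000000000000000000000000000000000000000004435334244554235445546534435554644404444000000000000000000000000000000000000000000000000000000000000000000000000000000000000000000000000000000000000000000000000000000000000000000000000000000000000000000000000000000000000000000000000000000000000000000000000000000000000000000000000000000000000000000000000000000000000000000000000000000000000000000000000000000000000000000000000000000000000000000000000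

/-- One digit of the table. -/
def icoD (n t : ℕ) : ℤ := ((icoN >>> (32 * n + 4 * t)) % 16 : ℕ) - 4

/-- Four times the icosian attached to a matrix. -/
def ico (g : SL25) : HQ (ℤ√5) :=
  let n := (g.1 0 0).val + 5 * (g.1 0 1).val + 25 * (g.1 1 0).val + 125 * (g.1 1 1).val
  ⟨⟨icoD n 0, icoD n 1⟩, ⟨icoD n 2, icoD n 3⟩, ⟨icoD n 4, icoD n 5⟩, ⟨icoD n 6, icoD n 7⟩⟩

/-- generator -/
def gi : SL25 := ⟨!![2, 0; 0, 3], by decide⟩
/-- generator -/
def gj : SL25 := ⟨!![0, 1; 4, 0], by decide⟩
/-- generator -/
def gx : SL25 := ⟨!![3, 4; 3, 1], by decide⟩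
/-- generator -/
def gb : SL25 := ⟨!![2, 1; 3, 2], by decide⟩

theorem ico_one : ico 1 = (4 : ℕ) • 1 := by decide +kernel
theorem ico_gi : ico gi = ⟨⟨0, 0⟩, ⟨4, 0⟩, ⟨0, 0⟩, ⟨0, 0⟩⟩ := by decide +kernel
theorem ico_gj : ico gj = ⟨⟨0, 0⟩, ⟨0, 0⟩, ⟨4, 0⟩, ⟨0, 0⟩⟩ := by decide +kernel
theorem ico_gx : ico gx = ⟨⟨-2, 0⟩, ⟨2, 0⟩, ⟨2, 0⟩, ⟨2, 0⟩⟩ := by decide +kernel
theorem ico_gb : ico gb = ⟨⟨-2, 0⟩, ⟨0, 0⟩, ⟨1, 1⟩, ⟨-1, 1⟩⟩ := by decide +kernel

theorem SL25_induction (P : SL25 → Prop) (h1 : P 1) (hi : P gi) (hj : P gj) (hx : P gx) (hb : P gb)
    (hmul : ∀ A B, P A → P B → P (A * B)) (A : SL25) : P A := by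
  have hpow : ∀ (A : SL25) (n : ℕ), P A → P (A ^ n) := by
    intro A n hA
    induction n with
    | zero => simpa using h1
    | succ n ih => rw [pow_succ]; exact hmul _ _ ih hA
  have key : ∀ (i j : Fin 2) (h : i ≠ j) (c : ZMod 5),
      Matrix.SpecialLinearGroup.transvection h c = (gi * gi * gb * gx) ^ c.val ∨
      Matrix.SpecialLinearGroup.transvection h c = (gb * gi * gj * gb) ^ c.val := by
    decide +kernel
  have : Fact (Nat.Prime 5) := ⟨Nat.prime_five⟩
  refine H10.SL_transvection_induction P h1 (fun i j h c => ?_) hmul A
  rcases key i j h c with e | e <;> rw [e] <;> apply hpow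
  · exact hmul _ _ (hmul _ _ (hmul _ _ hi hi) hb) hx
  · exact hmul _ _ (hmul _ _ (hmul _ _ hb hi) hj) hb

theorem ico_mul_gen : ∀ g : SL25, ico g * ico gi = (4 : ℕ) • ico (g * gi) ∧
    ico g * ico gj = (4 : ℕ) • ico (g * gj) ∧ ico g * ico gx = (4 : ℕ) • ico (g * gx) ∧
    ico g * ico gb = (4 : ℕ) • ico (g * gb) := by decide +kernel

/-- An adjoint whose product with the given icosian is an integer. -/
def icoAdj (y : HQ (ℤ√5)) : HQ (ℤ√5) :=
  ⟨star (y.r * y.r + y.i * y.i + y.j * y.j + y.k * y.k), 0, 0, 0⟩ * ⟨y.r, -y.i, -y.j, -y.k⟩

theorem icoAdj_mul : ∀ g : SL25, g ≠ 1 →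
    (icoAdj (ico g - ico 1) * (ico g - ico 1)).r.re ≠ 0 ∧
    icoAdj (ico g - ico 1) * (ico g - ico 1) =
      (icoAdj (ico g - ico 1) * (ico g - ico 1)).r.re • 1 := by decide +kernel

theorem ico_add_inv : ∀ g : SL25, ico g + ico g⁻¹ = ⟨2 * (ico g).r, 0, 0, 0⟩ := by decide +kernel

variable {R : Type*} [Ring R] [Algebra ℚ R]

/-- The icosian representation. -/
def icoHom (φ : HQ (ℤ√5) →+* R) : SL25 →* R where
  toFun g := (1 / 4 : ℚ) • φ (ico g)
  map_one' := by rw [ico_one, map_nsmul, map_one]; module
  map_mul' g h := by
    have key : ∀ {g h : SL25}, ico g * ico h = (4 : ℕ) • ico (g * h) →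
        (1 / 4 : ℚ) • φ (ico (g * h)) = ((1 / 4 : ℚ) • φ (ico g)) * ((1 / 4 : ℚ) • φ (ico h)) := by
      intro g h e
      rw [smul_mul_smul_comm, ← map_mul, e, map_nsmul]
      module
    induction h using SL25_induction generalizing g with
    | h1 => exact key (by rw [ico_one, mul_smul_comm, mul_one, mul_one])
    | hi => exact key (ico_mul_gen g).1
    | hj => exact key (ico_mul_gen g).2.1
    | hx => exact key (ico_mul_gen g).2.2.1
    | hb => exact key (ico_mul_gen g).2.2.2
    | hmul A B hA hB => rw [← mul_assoc, hB, hA, hB, mul_assoc]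

theorem icoHom_apply (φ : HQ (ℤ√5) →+* R) (g : SL25) : icoHom φ g = (1 / 4 : ℚ) • φ (ico g) := rfl

theorem nz_icoHom (φ : HQ (ℤ√5) →+* R) : NZ (icoHom φ) := by
  intro g hg
  obtain ⟨h1, h2⟩ := icoAdj_mul g hg
  have h3 := mul_geom_sum (icoHom φ g) (orderOf g)
  rw [← map_pow, pow_orderOf_eq_one, map_one, sub_self] at h3
  generalize ∑ i ∈ range (orderOf g), icoHom φ g ^ i = N at h3 ⊢
  have h4 : φ (ico g - ico 1) * N = 0 := by
    rw [map_sub, ico_one, map_nsmul, map_one]
    rw [icoHom_apply] at h3
    linear_combination (norm := exact nc!) (4 : ℚ) • h3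
  have h5 : φ (icoAdj (ico g - ico 1) * (ico g - ico 1)) * N = 0 := by
    rw [map_mul, mul_assoc, h4, mul_zero]
  rw [h2, map_zsmul, map_one, smul_mul_assoc, one_mul, ← Int.cast_smul_eq_zsmul ℚ] at h5
  exact (smul_eq_zero.1 h5).resolve_left (Int.cast_ne_zero.2 h1)

theorem icoHom_tau_comm (φ : HQ (ℤ√5) →+* R) (g h : SL25) :
    tau (icoHom φ) g * icoHom φ h = icoHom φ h * tau (icoHom φ) g := by
  have : (ico g + ico g⁻¹) * ico h = ico h * (ico g + ico g⁻¹) := by
    rw [ico_add_inv]
    ext1 <;> simp only [HQ.mul_def] <;> ring
  have h2 := congrArg φ this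
  simp only [map_mul, map_add] at h2
  simp only [tau, icoHom_apply]
  linear_combination (norm := exact nc!) (1 / 16 : ℚ) • h2

/-- Evaluation at a square root of five. -/
def sqrtFive {s : R} (hs : s * s = (5 : ℚ) • (1 : R)) : ℤ√5 →+* R where
  toFun a := a.re • (1 : R) + a.im • s
  map_one' := by simp
  map_zero' := by simp
  map_add' a b := by simp only [Zsqrtd.re_add, Zsqrtd.im_add]; module
  map_mul' a b := by
    simp only [Zsqrtd.re_mul, Zsqrtd.im_mul]
    linear_combination (norm := exact nc!) - (a.im * b.im) • hs

theorem sqrtFive_apply {s : R} (hs : s * s = (5 : ℚ) • (1 : R)) (a : ℤ√5) :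
    sqrtFive hs a = a.re • (1 : R) + a.im • s := rfl

theorem intFPF_SL25 : IntFPF SL25 := by
  have hs : √5 * √5 = (5 : ℚ) • (1 : ℝ) := by
    rw [Real.mul_self_sqrt (by norm_num)]; simp
  exact (nz_icoHom (HQ.map (sqrtFive hs))).intFPF

variable {G : Type*} [Group G] [Finite G]

theorem QB.exists_hom {C : Type*} [Ring C] [Algebra ℚ C] [Nontrivial C] {ρ : G →* HQ C}
    {i j x b : G} (h : QB ρ i j x) (hb : Typed ρ b) :
    ∃ (θ : SL25 →* G) (φ : HQ (ℤ√5) →+* HQ C), (∀ g, ρ (θ g) = icoHom φ g) ∧
      θ gi = i ∧ θ gj = j ∧ θ gx = x ∧ θ gb = b := by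
  obtain ⟨s, hs, hb⟩ := hb
  let φ := HQ.map (sqrtFive hs)
  have e1 : ρ i = icoHom φ gi := by
    rw [icoHom_apply, ico_gi, HQ.map_apply, h.hi]
    ext <;> simp only [HQ.smul_def, sqrtFive_apply] <;> module
  have e2 : ρ j = icoHom φ gj := by
    rw [icoHom_apply, ico_gj, HQ.map_apply, h.hj]
    ext <;> simp only [HQ.smul_def, sqrtFive_apply] <;> module
  have e3 : ρ x = icoHom φ gx := by
    rw [icoHom_apply, ico_gx, HQ.map_apply, h.rho_x]
    ext <;> simp only [HQ.smul_def, sqrtFive_apply] <;> module
  have e4 : ρ b = icoHom φ gb := by
    rw [icoHom_apply, ico_gb, HQ.map_apply, rho_eq_hat, hb]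
    ext <;> simp only [HQ.smul_def, HQ.sub_def, HQ.one_def, sqrtFive_apply] <;> module
  have key : ∀ g, ∃ y, ρ y = icoHom φ g := by
    intro g
    induction g using SL25_induction with
    | h1 => exact ⟨1, by simp⟩
    | hi => exact ⟨_, e1⟩
    | hj => exact ⟨_, e2⟩
    | hx => exact ⟨_, e3⟩
    | hb => exact ⟨_, e4⟩
    | hmul A B hA hB =>
      obtain ⟨y, hy⟩ := hA
      obtain ⟨w, hw⟩ := hB
      exact ⟨y * w, by rw [map_mul, map_mul, hy, hw]⟩
  choose t ht using key
  have hinj := h.nz.injective
  refine ⟨MonoidHom.mk' t fun a b => hinj (by rw [map_mul, ht, ht, ht, map_mul]), φ, ht, ?_⟩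
  exact ⟨hinj ((ht _).trans e1.symm), hinj ((ht _).trans e2.symm), hinj ((ht _).trans e3.symm),
    hinj ((ht _).trans e4.symm)⟩

omit [Finite G] in
theorem index_le_of_cover (H : Subgroup G) (s : Finset G) (h : ∀ g, ∃ q ∈ s, q * g ∈ H) :
    H.index ≤ s.card := by
  classical
  have : Function.Surjective fun q : s => (QuotientGroup.mk (q : G)⁻¹ : G ⧸ H) := by
    intro y
    obtain ⟨g, rfl⟩ := QuotientGroup.mk_surjective y
    obtain ⟨q, hq, hqg⟩ := h g
    exact ⟨⟨q, hq⟩, QuotientGroup.eq.2 (by simpa using hqg)⟩
  simpa [Subgroup.index_eq_card] using Nat.card_le_card_of_surjective _ this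

theorem mem_normalizer_zpowers {g x : G} (h : g * x * g⁻¹ = x ∨ g * x * g⁻¹ = x⁻¹) :
    g ∈ Subgroup.normalizer (Subgroup.zpowers x : Set G) := by
  apply Subgroup.mem_normalizer_fintype
  rintro _ ⟨k, rfl⟩
  simp only [← conj_zpow]
  apply Subgroup.zpow_mem
  rcases h with h | h <;> rw [h] <;> simp

/-- The elements of order three either generate at most four subgroups or generate `SL(2,5)`. -/
theorem NZ.dichotomy [Nontrivial R] {ρ : G →* R} (h : NZ ρ) {a : G} (ha : orderOf a = 3) :
    (Subgroup.normalizer (Subgroup.zpowers a : Set G)).index ≤ 4 ∨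
      ∃ (θ : SL25 →* G) (φ : HQ (ℤ√5) →+* R), (∀ g, ρ (θ g) = icoHom φ g) ∧
        ∀ c, orderOf c = 3 → c ∈ θ.range := by
  classical
  by_cases h1 : ∀ b, orderOf b = 3 → a = b ∨ a = b⁻¹
  · left
    refine (index_le_of_cover _ {1} fun g => ⟨1, by simp, mem_normalizer_zpowers ?_⟩).trans
      (by simp)
    rcases h1 (g * a * g⁻¹) (by rw [orderOf_conj', ha]) with e | e
    · exact Or.inl (by simpa using e.symm)
    · exact Or.inr (by rw [one_mul, ← inv_inj, ← e, inv_inv])
  push Not at h1
  obtain ⟨b, hb, hab, hab'⟩ := h1
  obtain ⟨c, hc, hp⟩ := h.exists_pr_two ha hb hab hab'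
  obtain ⟨i, j, hI, hJ, hIJ, hx⟩ := h.quat_of_pr_two ha hc hp
  obtain ⟨e, e1, e2⟩ := exists_equiv_HQ hI hJ hIJ
  let ρ' := e.symm.toRingHom.toMonoidHom.comp ρ
  have hρ' : ∀ g, e (ρ' g) = ρ g := fun g => e.apply_symm_apply _
  have hq : QB ρ' i j a := by
    refine ⟨h.map _, e.injective ?_, e.injective ?_, ha, e.injective ?_⟩
    · rw [hρ', e1]
    · rw [hρ', e2]
    · have e3 : (⟨0, 1, 1, 1⟩ : HQ (Subalgebra.centralizer ℚ ({ρ i, ρ j} : Set R))) =
          ⟨0, 1, 0, 0⟩ + ⟨0, 0, 1, 0⟩ + ⟨0, 1, 0, 0⟩ * ⟨0, 0, 1, 0⟩ := by
        simp [HQ.add_def, HQ.mul_def]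
      rw [hat, map_add, map_rat_smul, hρ', map_one, ← hat, hx, e3, map_add, map_add, map_mul, e1,
        e2]
  by_cases h2 : ∃ c, orderOf c = 3 ∧ Good ρ' i j a c
  · right
    obtain ⟨c, hc, m, -, hm⟩ := h2
    obtain ⟨θ, φ, hθ, t1, t2, t3, t4⟩ := hq.exists_hom hm
    refine ⟨θ, e.toRingHom.comp φ, fun g => ?_, fun d hd => ?_⟩
    · rw [← hρ', hθ, icoHom_apply, icoHom_apply, map_rat_smul]; rfl
    · have hM : Subgroup.closure ({i, j, a} : Set G) ≤ θ.range := by
        rw [Subgroup.closure_le]
        rintro _ (rfl | rfl | rfl)
        exacts [⟨_, t1⟩, ⟨_, t2⟩, ⟨_, t3⟩]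
      have hback : ∀ q ∈ θ.range, q * d * q⁻¹ ∈ θ.range → d ∈ θ.range := by
        intro q hq hd
        have := θ.range.mul_mem (θ.range.mul_mem (θ.range.inv_mem hq) hd) hq
        simpa [mul_assoc] using this
      rcases hq.cases hd with ⟨q, hq1, hq2⟩ | ⟨n, hn, hn'⟩
      · refine hback q ?_ ?_
        · rcases hq1 with rfl | rfl | rfl | rfl
          exacts [one_mem _, ⟨_, t1⟩, ⟨_, t2⟩, mul_mem ⟨_, t1⟩ ⟨_, t2⟩]
        · rcases hq2 with e | e <;> rw [e]
          exacts [⟨_, t3⟩, inv_mem ⟨_, t3⟩]
      · refine hback n (hM hn) ?_
        rw [hq.typed_unique (by rw [orderOf_conj', hd]) (by rw [orderOf_conj', hc]) hn' hm]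
        exact ⟨_, t4⟩
  · left
    refine (index_le_of_cover _ {1, i, j, i * j} fun g => ?_).trans card_le_four
    have hd : orderOf (g * a * g⁻¹) = 3 := by rw [orderOf_conj', ha]
    rcases hq.cases hd with ⟨q, hq1, hq2⟩ | hg
    · refine ⟨q, by simpa using hq1, mem_normalizer_zpowers ?_⟩
      simpa only [mul_assoc, mul_inv_rev] using hq2
    · exact (h2 ⟨_, hd, hg⟩).elim

/-- Group-theoretic form of the dichotomy. -/
theorem IntFPF.dichotomy (h : IntFPF G) {a : G} (ha : orderOf a = 3) :
    (Subgroup.normalizer (Subgroup.zpowers a : Set G)).index ≤ 4 ∨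
      ∃ θ : SL25 →* G, Function.Injective θ ∧ ∀ c, orderOf c = 3 → c ∈ θ.range := by
  obtain ⟨_, hρ⟩ := h.exists_nz
  refine (hρ.dichotomy ha).imp id ?_
  rintro ⟨θ, φ, h1, h2⟩
  refine ⟨θ, fun g g' e => (nz_icoHom φ).injective ?_, h2⟩
  rw [← h1, ← h1, e]

end H82
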