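import Mathlib
import Cfsg.Agent.Base

/-!
Linear groups over a prime field that are transitive on the non-zero vectors: the field spanned by
an abelian normal subgroup (helper82).
-/

set_option autoImplicit false

namespace H82

open Subgroup Module

variable {q : ℕ} [hq : Fact q.Prime] {V : Type*} [AddCommGroup V] [Module (ZMod q) V]
  {G : Type*} [Group G]

/-- A faithful linear representation that is transitive on non-zero vectors. -/
structure TrRep (ρ : G →* End (ZMod q) V) : Prop where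
  inj : Function.Injective ρ
  trans : ∀ v w : V, v ≠ 0 → w ≠ 0 → ∃ g, ρ g v = w

/-- The subgroup acts irreducibly. -/
def Irr (ρ : G →* End (ZMod q) V) (A : Subgroup G) : Prop :=
  ∀ W : Submodule (ZMod q) V, (∀ a ∈ A, ∀ v ∈ W, ρ a v ∈ W) → W = ⊥ ∨ W = ⊤

/-- The algebra spanned by a subgroup. -/
def fld (ρ : G →* End (ZMod q) V) (A : Subgroup G) : Subalgebra (ZMod q) (End (ZMod q) V) :=
  Algebra.adjoin (ZMod q) (ρ '' A)

variable {ρ : G →* End (ZMod q) V} {A : Subgroup G}

theorem mem_fld {a : G} (ha : a ∈ A) : ρ a ∈ fld ρ A := Algebra.subset_adjoin ⟨a, ha, rfl⟩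

theorem rep_mul_inv (g : G) : ρ g * ρ g⁻¹ = 1 := by rw [← map_mul, mul_inv_cancel, map_one]
theorem rep_inv_mul (g : G) : ρ g⁻¹ * ρ g = 1 := by rw [← map_mul, inv_mul_cancel, map_one]
theorem rep_inv_apply (g : G) (v : V) : ρ g⁻¹ (ρ g v) = v := by
  rw [← End.mul_apply, rep_inv_mul, End.one_apply]
theorem rep_apply_inv (g : G) (v : V) : ρ g (ρ g⁻¹ v) = v := by
  rw [← End.mul_apply, rep_mul_inv, End.one_apply]
theorem rep_ne_zero (g : G) {v : V} (hv : v ≠ 0) : ρ g v ≠ 0 := fun h =>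
  hv (by rw [← rep_inv_apply (ρ := ρ) g v, h, map_zero])

theorem commute_fld {c : End (ZMod q) V} (hc : ∀ a ∈ A, Commute c (ρ a)) {r : End (ZMod q) V}
    (hr : r ∈ fld ρ A) : Commute c r :=
  Algebra.commute_of_mem_adjoin_of_forall_mem_commute hr (by rintro _ ⟨a, ha, rfl⟩; exact hc a ha)

theorem fld_comm (hA : IsMulCommutative A) {r s : End (ZMod q) V} (hr : r ∈ fld ρ A)
    (hs : s ∈ fld ρ A) : Commute r s :=
  commute_fld (fun a ha => (commute_fld (fun b hb => by
    rw [Commute, SemiconjBy, ← map_mul, ← map_mul, setLike_mul_comm ha hb]) hr).symm) hs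

/-- Conjugation by a group element as an algebra endomorphism. -/
def conjAlg (ρ : G →* End (ZMod q) V) (g : G) : End (ZMod q) V →ₐ[ZMod q] End (ZMod q) V where
  toFun r := ρ g * r * ρ g⁻¹
  map_one' := by rw [mul_one, rep_mul_inv]
  map_mul' r s := by
    simp only [mul_assoc]; rw [← mul_assoc (ρ g⁻¹), rep_inv_mul, one_mul]
  map_zero' := by simp
  map_add' r s := by rw [mul_add, add_mul]
  commutes' c := by
    rw [Algebra.algebraMap_eq_smul_one, mul_smul_comm, smul_mul_assoc, mul_one, rep_mul_inv]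

theorem conjAlg_apply (g : G) (r : End (ZMod q) V) : conjAlg ρ g r = ρ g * r * ρ g⁻¹ := rfl

theorem conjAlg_mem [hA : A.Normal] (g : G) {r : End (ZMod q) V} (hr : r ∈ fld ρ A) :
    conjAlg ρ g r ∈ fld ρ A := by
  have : (fld ρ A).map (conjAlg ρ g) ≤ fld ρ A := by
    rw [fld, AlgHom.map_adjoin]
    refine Algebra.adjoin_mono ?_
    rintro _ ⟨_, ⟨a, ha, rfl⟩, rfl⟩
    exact ⟨_, hA.conj_mem a ha g, by simp [conjAlg_apply]⟩
  exact this ⟨r, hr, rfl⟩

/-- The action on the spanned algebra. -/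
def fldAut (ρ : G →* End (ZMod q) V) (A : Subgroup G) [A.Normal] :
    G →* (fld ρ A ≃ₐ[ZMod q] fld ρ A) :=
  (AlgEquiv.algHomUnitsEquiv _ _).toMonoidHom.comp (MonoidHom.toHomUnits
    { toFun := fun g => ((conjAlg ρ g).comp (fld ρ A).val).codRestrict _ fun r => conjAlg_mem g r.2
      map_one' := AlgHom.ext fun r => Subtype.ext (by
        change ρ 1 * r.1 * ρ 1⁻¹ = r.1
        simp)
      map_mul' := fun a b => AlgHom.ext fun r => Subtype.ext (by
        change ρ (a * b) * r.1 * ρ (a * b)⁻¹ = ρ a * (ρ b * r.1 * ρ b⁻¹) * ρ a⁻¹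
        simp [mul_assoc]) })

theorem fldAut_apply [A.Normal] (g : G) (r : fld ρ A) :
    (fldAut ρ A g r : End (ZMod q) V) = ρ g * r * ρ g⁻¹ := rfl

theorem ker_fldAut [A.Normal] (hρ : Function.Injective ρ) :
    (fldAut ρ A).ker = centralizer (A : Set G) := by
  ext g
  rw [MonoidHom.mem_ker, mem_centralizer_iff]
  constructor
  · intro h a ha
    have := congrArg Subtype.val (AlgEquiv.congr_fun h ⟨ρ a, mem_fld ha⟩)
    rw [fldAut_apply, ← map_mul, ← map_mul] at this
    exact (mul_inv_eq_iff_eq_mul.1 (hρ this)).symm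
  · intro h
    ext r : 2
    rw [fldAut_apply, (commute_fld (fun a ha => by
      rw [Commute, SemiconjBy, ← map_mul, ← map_mul, h a ha]) r.2).eq, mul_assoc, rep_mul_inv,
      mul_one]
    rfl

variable [Finite V]

theorem finite_end : Finite (End (ZMod q) V) := Finite.of_injective _ DFunLike.coe_injective

theorem TrRep.free (h : TrRep ρ) [A.Normal] (hA : IsMulCommutative A) {r : End (ZMod q) V}
    (hr : r ∈ fld ρ A) {v : V} (hv : v ≠ 0) (hrv : r v = 0) : r = 0 := by
  have := finite_end (q := q) (V := V)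
  let N : V → Set (End (ZMod q) V) := fun u => {b | b ∈ fld ρ A ∧ b u = 0}
  have h1 : ∀ u w, u ≠ 0 → w ≠ 0 → (N u).ncard ≤ (N w).ncard := by
    intro u w hu hw
    obtain ⟨g, rfl⟩ := h.trans u w hu hw
    refine Set.ncard_le_ncard_of_injOn (conjAlg ρ g) (fun b hb => ⟨conjAlg_mem g hb.1, ?_⟩) ?_
    · rw [conjAlg_apply, End.mul_apply, End.mul_apply, rep_inv_apply, hb.2, map_zero]
    · intro b _ c _ e
      have := congrArg (fun x => ρ g⁻¹ * x * ρ g) e
      simpa only [conjAlg_apply, mul_assoc, rep_inv_mul, mul_one, ← mul_assoc (ρ g⁻¹) (ρ g),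
        one_mul] using this
  have h2 : ∀ u w, u ≠ 0 → w ≠ 0 → N u ⊆ N w → N u = N w := fun u w hu hw hs =>
    Set.eq_of_subset_of_ncard_le hs (h1 w u hw hu)
  have h3 : ∀ u, r u ≠ 0 → N u = N (r u) := fun u hu =>
    h2 u _ (by rintro rfl; simp at hu) hu fun b hb => ⟨hb.1, by
      rw [← End.mul_apply, (fld_comm hA hb.1 hr).eq, End.mul_apply, hb.2, map_zero]⟩
  ext w
  by_contra hw
  have hw' : r w ≠ 0 := hw
  have h4 : r (v + w) = r w := by rw [map_add, hrv, zero_add]
  have h5 : N (v + w) = N w := by rw [h3 w hw', h3 _ (h4 ▸ hw'), h4]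
  have h6 : N w = N v := h2 _ _ (by rintro rfl; simp at hw') hv fun b hb =>
    ⟨hb.1, by simpa [hb.2] using (h5.ge hb).2⟩
  exact hw' (h6.ge ⟨hr, hrv⟩).2

theorem TrRep.fpf (h : TrRep ρ) [A.Normal] (hA : IsMulCommutative A) {a : G} (ha : a ∈ A)
    (h1 : a ≠ 1) {v : V} (hv : ρ a v = v) : v = 0 := by
  by_contra h0
  have := h.free hA (sub_mem (mem_fld ha) (one_mem _)) h0 (by simp [hv])
  exact h1 (h.inj (by rw [map_one, ← sub_eq_zero, this]))

variable [Nontrivial V]

theorem TrRep.isField (h : TrRep ρ) [A.Normal] (hA : IsMulCommutative A) : IsField (fld ρ A) := by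
  have := finite_end (q := q) (V := V)
  obtain ⟨v, hv⟩ := exists_ne (0 : V)
  have : NoZeroDivisors (fld ρ A) := ⟨fun {r s} e => by
    by_contra hne
    push Not at hne
    refine hne.1 (Subtype.ext (h.free hA r.2 (v := s.1 v)
      (fun e' => hne.2 (Subtype.ext (h.free hA s.2 hv e'))) ?_))
    rw [← End.mul_apply, ← Subalgebra.coe_mul, e]; rfl⟩
  have := NoZeroDivisors.to_isDomain (fld ρ A)
  exact Finite.isDomain_to_isField _

omit [Nontrivial V] in
theorem card_V : Nat.card V = q ^ finrank (ZMod q) V := by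
  rw [natCard_eq_pow_finrank (K := ZMod q), Nat.card_zmod]

theorem finrank_V_pos : 0 < finrank (ZMod q) V := finrank_pos

theorem TrRep.card_dvd (h : TrRep ρ) : q ^ finrank (ZMod q) V - 1 ∣ Nat.card G := by
  let _ : MulAction G V := MulAction.compHom V ρ
  obtain ⟨v, hv⟩ := exists_ne (0 : V)
  have h1 : MulAction.orbit G v = {0}ᶜ := by
    ext w
    constructor
    · rintro ⟨g, rfl⟩; exact rep_ne_zero g hv
    · intro hw; exact h.trans v w hv hw
  rw [← card_V, ← Set.ncard_singleton (0 : V), ← Set.ncard_compl, ← h1,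
    ← MulAction.index_stabilizer]
  exact index_dvd_card _

/-- Evaluation at a vector. -/
def fldEv (ρ : G →* End (ZMod q) V) (A : Subgroup G) (v : V) : fld ρ A →ₗ[ZMod q] V :=
  (LinearMap.applyₗ v).comp (fld ρ A).val.toLinearMap

omit [Nontrivial V] in
theorem TrRep.fldEv_injective (h : TrRep ρ) [A.Normal] (hA : IsMulCommutative A) {v : V}
    (hv : v ≠ 0) : Function.Injective (fldEv ρ A v) :=
  (injective_iff_map_eq_zero _).2 fun r hr => Subtype.ext (h.free hA r.2 hv hr)

omit [Finite V] [Nontrivial V] in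
theorem Irr.fldEv_surjective (h : Irr ρ A) {v : V} (hv : v ≠ 0) :
    Function.Surjective (fldEv ρ A v) := by
  rw [← LinearMap.range_eq_top]
  refine (h _ ?_).resolve_left fun e => hv ?_
  · rintro a ha _ ⟨r, rfl⟩
    exact ⟨⟨ρ a, mem_fld ha⟩ * r, rfl⟩
  · exact (Submodule.eq_bot_iff _).1 e v ⟨1, rfl⟩

omit [Finite V] [Nontrivial V] in
theorem apply_mem_of_fld {W : Submodule (ZMod q) V} (hW : ∀ a ∈ A, ∀ v ∈ W, ρ a v ∈ W)
    {r : End (ZMod q) V} (hr : r ∈ fld ρ A) : ∀ v ∈ W, r v ∈ W := by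
  induction hr using Algebra.adjoin_induction with
  | mem x hx => obtain ⟨a, ha, rfl⟩ := hx; exact hW a ha
  | algebraMap c => intro v hv; exact W.smul_mem c hv
  | add x y _ _ hx hy => intro v hv; exact W.add_mem (hx v hv) (hy v hv)
  | mul x y _ _ hx hy => intro v hv; exact hx _ (hy v hv)

/-- The numerical consequences of the field structure. -/
theorem TrRep.exists_deg [Finite G] (h : TrRep ρ) (A : Subgroup G) [A.Normal]
    (hA : IsMulCommutative A) :
    ∃ k, k ∣ finrank (ZMod q) V ∧ IsCyclic A ∧ Nat.card A ∣ q ^ k - 1 ∧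
      (centralizer (A : Set G)).index ∣ k ∧ IsCyclic (G ⧸ centralizer (A : Set G)) ∧
      (k = finrank (ZMod q) V → Irr ρ A) ∧ (k = 1 → A ≤ center G) := by
  have := finite_end (q := q) (V := V)
  let _ := (h.isField hA).toField
  have hK : Nat.card (fld ρ A) = q ^ finrank (ZMod q) (fld ρ A) := card_V
  let u : A →* (fld ρ A)ˣ := MonoidHom.toHomUnits
    ((ρ.comp A.subtype).codRestrict (fld ρ A) fun a => mem_fld a.2)
  have hu : Function.Injective u := fun a b e =>
    Subtype.ext (h.inj (congrArg (fun x : (fld ρ A)ˣ => x.1.1) e))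
  refine ⟨finrank (ZMod q) (fld ρ A), ⟨finrank (fld ρ A) V, ?_⟩, isCyclic_of_injective u hu, ?_, ?_,
    ?_, fun e W hW => ?_, fun e a ha => ?_⟩
  · apply Nat.pow_right_injective hq.out.two_le
    simp only
    rw [pow_mul, ← hK, ← card_V, natCard_eq_pow_finrank (K := fld ρ A)]
  · rw [← hK, ← Nat.card_units]
    exact card_dvd_of_injective u hu
  · rw [← ker_fldAut (A := A) h.inj, index_ker, ← IsGalois.card_aut_eq_finrank]
    exact card_subgroup_dvd_card _
  · exact isCyclic_of_injective (QuotientGroup.lift _ (fldAut ρ A) (ker_fldAut h.inj).ge)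
      ((QuotientGroup.injective_lift_iff _ _ _).2 (ker_fldAut h.inj).symm)
  · refine or_iff_not_imp_left.2 fun hne => ?_
    obtain ⟨v, hv, hv0⟩ := Submodule.exists_mem_ne_zero_of_ne_bot hne
    have := (LinearMap.injective_iff_surjective_of_finrank_eq_finrank e).1
      (h.fldEv_injective hA hv0)
    rw [eq_top_iff]
    intro w _
    obtain ⟨r, rfl⟩ := this w
    exact apply_mem_of_fld hW r.2 v hv
  · obtain ⟨c, hc⟩ := (finrank_eq_one_iff_of_nonzero' (1 : fld ρ A) one_ne_zero).1 e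
      ⟨ρ a, mem_fld ha⟩
    have hc' : c • (1 : End (ZMod q) V) = ρ a := congrArg Subtype.val hc
    rw [mem_center_iff]
    intro g
    apply h.inj
    rw [map_mul, map_mul, ← hc', mul_smul_comm, smul_mul_assoc, mul_one, one_mul]

omit [Finite V] in
/-- The centraliser of an irreducible abelian normal subgroup is abelian. -/
theorem TrRep.comm_centralizer (h : TrRep ρ) [A.Normal] (hA : IsMulCommutative A) (hI : Irr ρ A) :
    IsMulCommutative (centralizer (A : Set G)) := by
  obtain ⟨v, hv⟩ := exists_ne (0 : V)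
  have key : ∀ c ∈ centralizer (A : Set G), ρ c ∈ fld ρ A := by
    intro c hc
    obtain ⟨u, hu⟩ := hI.fldEv_surjective hv (ρ c v)
    have : ρ c = u := by
      ext w
      obtain ⟨r, rfl⟩ := hI.fldEv_surjective hv w
      have h1 : Commute (ρ c) r := commute_fld (fun a ha => by
        rw [Commute, SemiconjBy, ← map_mul, ← map_mul, hc a ha]) r.2
      change (ρ c * r.1) v = (u.1 * r.1) v
      rw [h1.eq, (fld_comm hA u.2 r.2).eq, End.mul_apply, ← hu]
      rfl
    exact this ▸ u.2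
  exact IsMulCommutative.of_setLike_mul_comm fun a ha b hb => h.inj (by
    rw [map_mul, map_mul, (fld_comm hA (key a ha) (key b hb)).eq])

/-- An irreducible abelian normal subgroup makes the group one-dimensional semilinear. -/
theorem TrRep.semilinear (h : TrRep ρ) [A.Normal] (hA : IsMulCommutative A) (hI : Irr ρ A) :
    ∃ (F : Type) (_ : Field F) (_ : Fintype F) (e : V ≃+ F),
      ∀ g : G, ∃ (a : F) (σ : F ≃+* F), ∀ v : V, e (ρ g v) = a * σ (e v) := by
  have := finite_end (q := q) (V := V)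
  let _ := (h.isField hA).toField
  obtain ⟨v, hv⟩ := exists_ne (0 : V)
  let e0 : fld ρ A ≃ₗ[ZMod q] V :=
    LinearEquiv.ofBijective _ ⟨h.fldEv_injective hA hv, hI.fldEv_surjective hv⟩
  obtain ⟨F, _, _, ⟨ε'⟩⟩ : ∃ (F : Type) (_ : Field F) (_ : Fintype F),
      Nonempty (F ≃+* fld ρ A) :=
    ⟨Fin _, (Finite.equivFin (fld ρ A)).symm.field, inferInstance,
      ⟨(Finite.equivFin (fld ρ A)).symm.ringEquiv⟩⟩
  refine ⟨F, inferInstance, inferInstance,
    e0.symm.toAddEquiv.trans ε'.symm.toAddEquiv, fun g => ⟨ε'.symm (e0.symm (ρ g v)),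
      (ε'.trans (fldAut ρ A g).toRingEquiv).trans ε'.symm, fun w => ?_⟩⟩
  obtain ⟨r, rfl⟩ := e0.surjective w
  apply ε'.injective
  apply e0.injective
  have h1 : ∀ s : fld ρ A, e0 s = s.1 v := fun _ => rfl
  change e0 (ε' (ε'.symm (e0.symm (ρ g (e0 r))))) = e0 (ε' (ε'.symm (e0.symm (ρ g v)) *
    ε'.symm (fldAut ρ A g (ε' (ε'.symm (e0.symm (e0 r)))))))
  simp only [RingEquiv.apply_symm_apply, map_mul, LinearEquiv.symm_apply_apply,
    LinearEquiv.apply_symm_apply]
  rw [mul_comm, h1, h1, Subalgebra.coe_mul, End.mul_apply, ← h1 (e0.symm _), e0.apply_symm_apply]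
  change _ = (ρ g * r.1 * ρ g⁻¹) (ρ g v)
  rw [End.mul_apply, End.mul_apply, rep_inv_apply]

/-- There is an irreducible cyclic normal subgroup. -/
def Gam (ρ : G →* End (ZMod q) V) : Prop := ∃ A : Subgroup G, A.Normal ∧ IsCyclic A ∧ Irr ρ A

theorem TrRep.gam_of_centralizer_le [Finite G] (h : TrRep ρ) (A : Subgroup G) [A.Normal]
    (hA : IsMulCommutative A) (hC : centralizer (A : Set G) ≤ A) : Gam ρ := by
  obtain ⟨k, ⟨d, hd⟩, h1, h2, h3, -, h4, -⟩ := h.exists_deg A hA
  refine ⟨A, inferInstance, h1, h4 ?_⟩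
  have hn := finrank_V_pos (q := q) (V := V)
  have h5 := Nat.le_of_dvd Nat.card_pos h.card_dvd
  rw [hd] at hn h5 ⊢
  have hk : 0 < k := Nat.pos_of_mul_pos_right hn
  by_contra hne
  have hd2 : 2 ≤ d := by
    rcases d with _ | _ | d
    · simp at hn
    · simp at hne
    · omega
  have h6 := Nat.le_of_dvd hk h3
  have h7 : 1 < q ^ k := Nat.one_lt_pow hk.ne' hq.out.one_lt
  have h8 := (card_le_of_le hC).trans (Nat.le_of_dvd (by omega) h2)
  have h9 := (centralizer (A : Set G)).card_mul_index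
  have h10 : k < q ^ k := Nat.lt_pow_self hq.out.one_lt
  have h11 : q ^ k * q ^ k ≤ q ^ (k * d) := by
    rw [← pow_add]; exact Nat.pow_le_pow_right hq.out.pos (by nlinarith)
  have h12 := Nat.mul_le_mul h8 h6
  generalize q ^ k = Q at *
  obtain ⟨Q, rfl⟩ := Nat.exists_eq_add_of_lt h7
  simp only [show 1 + Q + 1 - 1 = Q + 1 by omega] at h12
  have : Nat.card G < (1 + Q + 1) * (1 + Q + 1) - 1 := by
    apply Nat.lt_sub_of_add_lt; nlinarith
  omega

end H82
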