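import Mathlib
import Cfsg.Agent.Base
import Cfsg.Agent.Lib.FrobC.Trans
import Cfsg.Agent.Lib.Core.Fitting
import Cfsg.Agent.Lib.Core.CoprimeAbelian
import Cfsg.Agent.Lib.Core.Frobenius
import Cfsg.Agent.Lib.PGroup.Critical
import Cfsg.Agent.Lib.PGroup.Extra
import Cfsg.Agent.Lib.Zsig.Basic

/-!
Huppert's theorem on solvable linear groups that are transitive on non-zero vectors (helper82).
-/

set_option autoImplicit false

namespace H82

open Subgroup Module Cfsg
open scoped commutatorElement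

variable {q : ℕ} [hq : Fact q.Prime] {V : Type*} [AddCommGroup V] [Module (ZMod q) V]
  {G : Type*} [Group G] [Finite G] {ρ : G →* End (ZMod q) V}

theorem linearIndependent_out [Nontrivial V] {Q : Subgroup G}
    (hc : ∀ x ∈ Q, ∀ y ∈ Q, ⁅x, y⁆ ∈ centralizer (Q : Set G))
    (hf : ∀ z ∈ Q ⊓ centralizer (Q : Set G), z ≠ 1 → ∀ v, ρ z v = v → v = 0)
    (hQ : (Nat.card Q : ZMod q) ≠ 0) :
    LinearIndependent (ZMod q)
      fun t : Q ⧸ (centralizer (Q : Set G)).subgroupOf Q => ρ (t.out : Q) := by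
  classical
  have := Fintype.ofFinite Q
  have := Fintype.ofFinite (Q ⧸ (centralizer (Q : Set G)).subgroupOf Q)
  let π : G → End (ZMod q) V := fun t => ∑ e : Q, ρ (e * t * (e : G)⁻¹)
  have h0 : ∀ t ∈ Q, t ∉ centralizer (Q : Set G) → π t = 0 := by
    intro t ht htc
    obtain ⟨e0, he0, hne⟩ : ∃ e0 ∈ Q, ⁅e0, t⁆ ≠ 1 := by
      by_contra hcon
      push Not at hcon
      exact htc fun e he => (commutatorElement_eq_one_iff_commute.1 (hcon e he)).eq
    have h1 : ρ ⁅e0, t⁆ * π t = π t := by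
      simp only [π, Finset.mul_sum, ← map_mul]
      refine Fintype.sum_equiv (Equiv.mulRight (⟨e0, he0⟩ : Q)) _ _ fun e => ?_
      congr 1
      simp only [Equiv.coe_mulRight, coe_mul, ← mul_assoc]
      rw [← hc e0 he0 t ht e e.2, commutatorElement_def]
      group
    ext v
    exact hf _ ⟨Q.mul_mem (Q.mul_mem (Q.mul_mem he0 ht) (Q.inv_mem he0)) (Q.inv_mem ht),
      hc e0 he0 t ht⟩ hne _ (LinearMap.congr_fun h1 v)
  rw [Fintype.linearIndependent_iff]
  intro c hc0 i
  have h1 : ∑ j, c j • π (((i.out : Q) : G)⁻¹ * (j.out : Q)) = 0 := by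
    simp only [π, Finset.smul_sum]
    rw [Finset.sum_comm]
    refine Finset.sum_eq_zero fun e _ => ?_
    have := congrArg (fun b => ρ e * ρ ((i.out : Q) : G)⁻¹ * b * ρ (e : G)⁻¹) hc0
    simpa only [Finset.mul_sum, Finset.sum_mul, mul_smul_comm, smul_mul_assoc, mul_zero, zero_mul,
      map_mul, mul_assoc] using this
  rw [Finset.sum_eq_single i (fun j _ hj => by
    rw [h0 _ (Q.mul_mem (Q.inv_mem i.out.2) j.out.2) (fun hm => hj (by
      rw [← j.out_eq', ← i.out_eq', eq_comm, QuotientGroup.eq]; exact hm)), smul_zero])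
    (by simp)] at h1
  simp only [π, inv_mul_cancel, mul_one, mul_inv_cancel, map_one, Finset.sum_const,
    Finset.card_univ, ← Nat.card_eq_fintype_card, ← Nat.cast_smul_eq_nsmul (ZMod q), smul_smul] at h1
  exact (mul_eq_zero.1 ((smul_eq_zero.1 h1).resolve_right one_ne_zero)).resolve_right hQ

theorem card_dvd_sub {R E Z : Subgroup G} (hE : R ≤ normalizer (E : Set G))
    (hZ : R ≤ normalizer (Z : Set G)) (hZE : Z ≤ E)
    (h : ∀ y ∈ R, y ≠ 1 → ∀ e ∈ E, Commute y e → e ∈ Z) :
    Nat.card R ∣ Nat.card E - Nat.card Z := by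
  let act : MulAction R ((E : Set G) \ Z : Set G) :=
    { smul := fun a k => ⟨a * k * (a : G)⁻¹, (mem_normalizer_iff.1 (hE a.2) k).1 k.2.1,
        fun hk => k.2.2 ((mem_normalizer_iff.1 (hZ a.2) k).2 hk)⟩
      one_smul := fun k => Subtype.ext (by change (1 : G) * k * 1⁻¹ = k; simp)
      mul_smul := fun a b k => Subtype.ext (by
        change (a * b : G) * k * (a * b : G)⁻¹ = a * (b * k * (b : G)⁻¹) * (a : G)⁻¹
        group) }
  have hd := H2.card_dvd_of_free (A := R) (X := ((E : Set G) \ Z : Set G)) fun a k e => by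
    by_contra ha
    exact k.2.2 (h a a.2 (fun e => ha (Subtype.ext e)) k k.2.1
      (mul_inv_eq_iff_eq_mul.1 (congrArg Subtype.val e)))
  rwa [Nat.card_coe_set_eq, Set.ncard_sdiff hZE] at hd

/-- A critical subgroup of `O_p(G)`. -/
structure Crit (p : ℕ) (E : Subgroup G) : Prop where
  normal : E.Normal
  le : E ≤ pCore p G
  pow : ∀ x ∈ E, x ^ p ∈ centralizer (E : Set G)
  comm : ∀ x ∈ E, ∀ y ∈ E, ⁅x, y⁆ ∈ centralizer (E : Set G)
  cent : pCore p G ⊓ centralizer (E : Set G) ≤ E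

theorem exists_crit (p : ℕ) [Fact p.Prime] : ∃ E : Subgroup G, Crit p E := by
  obtain ⟨H, hH⟩ := H5.exists_isCritical (H1.isPGroup_pCore (p := p) (G := G))
  have := hH.char
  have key : ∀ x : pCore p G, x ∈ centralizer (H : Set (pCore p G)) ↔
      (x : G) ∈ centralizer ((H.map (pCore p G).subtype : Subgroup G) : Set G) := fun x =>
    ⟨by rintro hx _ ⟨y, hy, rfl⟩; exact congrArg Subtype.val (hx y hy),
      fun hx y hy => Subtype.ext (hx y ⟨y, hy, rfl⟩)⟩
  refine ⟨H.map (pCore p G).subtype, ConjAct.normal_of_characteristic_of_normal, map_subtype_le _,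
    ?_, ?_, fun x hx => ⟨⟨x, hx.1⟩, hH.centralizer_le ((key _).2 hx.2), rfl⟩⟩
  · rintro _ ⟨x, hx, rfl⟩; exact (key _).1 (hH.pow_mem x hx)
  · rintro _ ⟨x, hx, rfl⟩ _ ⟨y, -, rfl⟩; exact (key _).1 (hH.commutator_mem x hx y)

omit [Finite G] in
theorem Crit.isPGroup {p : ℕ} [Fact p.Prime] {E : Subgroup G} (h : Crit p E) : IsPGroup p E :=
  H1.isPGroup_pCore.to_le h.le

theorem Crit.mem_centralizer {p : ℕ} [Fact p.Prime] {E : Subgroup G} (h : Crit p E) {x : G}
    (hx : (orderOf x).Coprime p) (hxE : x ∈ centralizer (E : Set G)) :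
    x ∈ centralizer (pCore p G : Set G) := by
  have := h.normal
  refine zpowers_le.1 (H2.le_centralizer_of_normal_centralizer_le (C := E) le_normalizer_of_normal
    (H2.coprime_card_of_isPGroup (by rwa [Nat.card_zpowers]) H1.isPGroup_pCore)
    le_normalizer_of_normal (zpowers_le.2 hxE) (h.cent.trans ?_))
  exact le_centralizer_iff.1 (zpowers_le.2 hxE)

omit [Finite G] in
theorem isMulCommutative_inf_centralizer (E : Subgroup G) :
    IsMulCommutative (E ⊓ centralizer (E : Set G) : Subgroup G) :=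
  IsMulCommutative.of_setLike_mul_comm fun a ha _ hb => hb.2 a ha.1

variable [Finite V] [Nontrivial V]

theorem TrRep.exists_deg_prime (h : TrRep ρ) {p : ℕ} [Fact p.Prime] {N : Subgroup G} [N.Normal]
    (hN : IsPGroup p N) (hne : N ≠ ⊥) :
    ∃ k, k ∣ finrank (ZMod q) V ∧ p ∣ q ^ k - 1 ∧ (k = finrank (ZMod q) V → Gam ρ) := by
  obtain ⟨z, h1, h2, h3⟩ := H5.exists_mem_centralizer_orderOf_eq hN le_rfl le_normalizer hne
  obtain ⟨k, k1, k2, k3, -, -, k4, -⟩ := h.exists_deg _ (isMulCommutative_inf_centralizer N)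
  exact ⟨k, k1, (h3 ▸ H1.orderOf_dvd_card_of_mem (mem_inf.2 ⟨h1, h2⟩)).trans k3,
    fun e => ⟨_, inferInstance, k2, k4 e⟩⟩

theorem TrRep.cast_card_ne_zero (h : TrRep ρ) {p : ℕ} [hp : Fact p.Prime] {N Q : Subgroup G}
    [N.Normal] (hN : IsPGroup p N) (hQ : Q ≤ N) : (Nat.card Q : ZMod q) ≠ 0 := by
  obtain ⟨m, hm⟩ := (hN.to_le hQ).exists_card_eq
  rw [Ne, ZMod.natCast_eq_zero_iff, hm]
  intro hd
  have hpq := (Nat.prime_dvd_prime_iff_eq hq.out hp.out).1 (hq.out.dvd_of_dvd_pow hd)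
  subst hpq
  obtain ⟨k, k1, k2, -⟩ := h.exists_deg_prime hN (by
    rintro rfl
    rw [le_bot_iff.1 hQ, card_bot] at hm
    rw [← hm] at hd
    exact hq.out.not_dvd_one hd)
  have hk := Nat.pos_of_dvd_of_pos k1 finrank_V_pos
  exact hq.out.not_dvd_one ((Nat.dvd_sub_iff_right (Nat.one_le_pow _ _ hq.out.pos)
    (dvd_pow_self q hk.ne')).1 k2)

theorem TrRep.relIndex_le (h : TrRep ρ) {p : ℕ} [Fact p.Prime] {E Q : Subgroup G} (hE : Crit p E)
    (hQ : Q ≤ E) (hZ : Q ⊓ centralizer (Q : Set G) ≤ centralizer (E : Set G)) :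
    (centralizer (Q : Set G)).relIndex Q ≤ finrank (ZMod q) V * finrank (ZMod q) V ∧
    ((centralizer (Q : Set G)).relIndex Q = finrank (ZMod q) V * finrank (ZMod q) V →
      centralizer (Q : Set G) ≤ center G) := by
  have := hE.normal
  have := Fintype.ofFinite (Q ⧸ (centralizer (Q : Set G)).subgroupOf Q)
  have hl := linearIndependent_out (ρ := ρ) (Q := Q)
    (fun x hx y hy => centralizer_le hQ (hE.comm x (hQ hx) y (hQ hy)))
    (fun z hz h1 v hv => h.fpf (isMulCommutative_inf_centralizer E) ⟨hQ hz.1, hZ hz⟩ h1 hv)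
    (h.cast_card_ne_zero hE.isPGroup hQ)
  have h1 : (centralizer (Q : Set G)).relIndex Q =
      Fintype.card (Q ⧸ (centralizer (Q : Set G)).subgroupOf Q) := Nat.card_eq_fintype_card
  rw [h1, ← finrank_linearMap (ZMod q) (ZMod q)]
  refine ⟨hl.fintype_card_le_finrank, fun e c hc => ?_⟩
  have h2 := hl.span_eq_top_of_card_eq_finrank' e
  obtain ⟨a, ha, h3⟩ := End.mem_center_iff.1 (show ρ c ∈ Set.center (End (ZMod q) V) by
    rw [Semigroup.mem_center_iff]
    intro f
    have hf : f ∈ Submodule.span (ZMod q) _ := h2 ▸ Submodule.mem_top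
    induction hf using Submodule.span_induction with
    | mem x hx => obtain ⟨t, rfl⟩ := hx; rw [← map_mul, ← map_mul, hc _ t.out.2]
    | zero => simp
    | add x y _ _ hx hy => rw [add_mul, mul_add, hx, hy]
    | smul b x _ hx => rw [smul_mul_assoc, mul_smul_comm, hx])
  rw [mem_center_iff]
  intro g
  apply h.inj
  rw [map_mul, map_mul, h3]
  ext v
  simp

theorem TrRep.crit_big (h : TrRep ρ) {p r : ℕ} [hp : Fact p.Prime] (hr : r.Prime) (hpr : p ≠ r)
    (hn : finrank (ZMod q) V < r) {E : Subgroup G} (hE : Crit p E) {x : G} (hx : orderOf x = r)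
    (hxE : x ∉ centralizer (E : Set G)) :
    r = finrank (ZMod q) V + 1 ∧ (∃ i, 0 < i ∧ finrank (ZMod q) V = p ^ i) ∧
      p * (finrank (ZMod q) V * finrank (ZMod q) V) ∣ Nat.card G ∧
      (centralizer (E : Set G)).relIndex E = finrank (ZMod q) V * finrank (ZMod q) V ∧
      E ⊓ centralizer {x} ≤ centralizer (E : Set G) := by
  have := hE.normal
  set n := finrank (ZMod q) V
  set Z := E ⊓ centralizer (E : Set G) with hZ
  set X := zpowers x with hX
  have hXc : centralizer (X : Set G) = centralizer {x} := by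
    rw [hX, zpowers_eq_closure, centralizer_closure]
  obtain ⟨k, k1, k2, -, k3, -⟩ := h.exists_deg Z (isMulCommutative_inf_centralizer E)
  have hZX : Z ≤ centralizer (X : Set G) := by
    rw [le_centralizer_iff, zpowers_le]
    refine H1.mem_of_coprime_index ?_
    rw [hx, hr.coprime_iff_not_dvd]
    exact fun hd => absurd (Nat.le_of_dvd finrank_V_pos ((hd.trans k3).trans k1)) (by omega)
  have hcop : (Nat.card X).Coprime (Nat.card E) := H2.coprime_card_of_isPGroup (by
    rw [Nat.card_zpowers, hx]; exact (Nat.coprime_primes hr hp.out).2 hpr.symm) hE.isPGroup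
  have hXE : X ≤ normalizer (E : Set G) := le_normalizer_of_normal
  set E0 := ⁅E, X⁆ with hE0
  have h0 : E0 ≤ E := commutator_le_left _ _
  have hEE : ⁅E, E⁆ ≤ Z := le_inf (commutator_le_left _ _) (commutator_le.2 hE.comm)
  have h1 : E ⊓ centralizer (X : Set G) ≤ centralizer (E0 : Set G) := by
    rw [le_centralizer_iff, ← commutator_eq_bot_iff_le_centralizer]
    refine commutator_commutator_eq_bot_of_rotate ?_ ?_
    · rw [commutator_eq_bot_iff_le_centralizer.2 (le_centralizer_iff.1 inf_le_right),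
        commutator_bot_left]
    · exact commutator_eq_bot_iff_le_centralizer.2
        (((commutator_mono inf_le_left le_rfl).trans hEE).trans hZX)
  set Z0 := E0 ⊓ centralizer (E0 : Set G) with hZ0
  have h2 : Z0 ≤ centralizer (E : Set G) := by
    intro y hy e he
    obtain ⟨a, ha, c, hc, rfl⟩ := H2.exists_commutator_mul_centralizer hXE hcop
      (Or.inl (H2.isSolvable_zpowers x)) he
    rw [mul_assoc, ← h1 hc y hy.1, ← mul_assoc, hy.2 a ha, mul_assoc]
  have hXE0 : X ≤ normalizer (E0 : Set G) := normalizer_commutator_ge_right E X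
  have h3 : E0 ⊓ centralizer (X : Set G) ≤ ⁅E0, E0⁆ := H2.inf_centralizer_le_commutator hXE0
    (hcop.coprime_dvd_right (card_dvd_of_le h0)) (H2.commutator_commutator_eq hXE hcop).ge
  have h4 : ⁅E0, E0⁆ ≤ Z0 := le_inf (commutator_le_self _)
    (((commutator_mono h0 h0).trans hEE).trans (inf_le_right.trans (centralizer_le h0)))
  have h5 : Z0 ≤ E0 ⊓ centralizer (X : Set G) :=
    le_inf inf_le_left ((le_inf (inf_le_left.trans h0) h2).trans hZX)
  have hne : E0 ≠ ⊥ := fun e => hxE (zpowers_le.1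
    (le_centralizer_iff.1 (commutator_eq_bot_iff_le_centralizer.1 e)))
  obtain ⟨z, z1, z2, z3⟩ := H5.exists_mem_centralizer_orderOf_eq (hE.isPGroup.to_le h0) le_rfl
    le_normalizer hne
  have h6 : Z0 = zpowers z := by
    symm
    refine eq_of_le_of_card_ge (zpowers_le.2 ⟨z1, z2⟩) ?_
    rw [Nat.card_zpowers, z3]
    have hc : IsCyclic Z0 := isCyclic_of_injective _
      (inclusion_injective (le_inf (inf_le_left.trans h0) h2 : Z0 ≤ Z))
    rw [← hc.exponent_eq_card]
    refine Nat.le_of_dvd hp.out.pos (Monoid.exponent_dvd_of_forall_pow_eq_one fun g => ?_)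
    exact Subtype.ext (H5.commutator_pow_eq_one_of_class_two
      (commutator_eq_bot_iff_le_centralizer.2 (hEE.trans inf_le_right)) hE.pow
      (commutator_mono h0 h0 (h3 (h5 g.2))))
  have hW : H5.WES p E0 z := ⟨z3, h6, fun a ha b hb => h6 ▸ h4 (commutator_mem_commutator ha hb)⟩
  obtain ⟨i, hi⟩ := hW.exists_card hp.out
  have hZ0c : Nat.card Z0 = p := by rw [h6, Nat.card_zpowers, z3]
  have h7 : (centralizer (E0 : Set G)).relIndex E0 = p ^ i * p ^ i := by
    have := H1.card_inf_mul_relIndex (centralizer (E0 : Set G)) E0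
    rw [inf_comm, hZ0c, hi] at this
    apply Nat.eq_of_mul_eq_mul_left hp.out.pos
    rw [this]; ring
  have hi0 : 0 < i := by
    refine Nat.pos_of_ne_zero fun e => hne ?_
    rw [e, pow_zero, mul_one, relIndex_eq_one] at h7
    rw [hE0, ← H2.commutator_commutator_eq hXE hcop, commutator_eq_bot_iff_le_centralizer]
    exact (le_inf le_rfl h7).trans (h5.trans inf_le_right)
  have h8 : r ∣ (p ^ i + 1) * (p ^ i - 1) := by
    have := card_dvd_sub hXE0 (H2.le_normalizer_inf hXE0 (H2.le_normalizer_centralizer hXE0))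
      inf_le_left fun y hy y1 e he hc => h4 (h3 (mem_inf.2 ⟨he, by
        obtain ⟨j, hj⟩ := H5.exists_zpow_eq_of_prime hr hx hy y1 (mem_zpowers x)
        rw [hXc, mem_centralizer_singleton_iff, ← hj]
        exact (hc.zpow_left j).symm⟩))
    rw [Nat.card_zpowers, hx, hZ0c, hi, pow_succ, ← Nat.sub_one_mul, mul_comm 2, pow_mul,
      ← one_pow 2, Nat.sq_sub_sq] at this
    exact ((Nat.coprime_primes hr hp.out).2 hpr.symm).dvd_of_dvd_mul_right this
  have h9 : 1 < p ^ i := Nat.one_lt_pow hi0.ne' hp.out.one_lt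
  have h10 : r ≤ p ^ i + 1 := by
    rcases (Nat.Prime.dvd_mul hr).1 h8 with e | e
    · exact Nat.le_of_dvd (by omega) e
    · have := Nat.le_of_dvd (by omega) e; omega
  obtain ⟨l1, l2⟩ := h.relIndex_le hE h0 h2
  rw [h7] at l1 l2
  have h11 : p ^ i ≤ n := Nat.mul_self_le_mul_self_iff.1 l1
  have h12 : n = p ^ i := by omega
  have l3 := l2 (by rw [← h12])
  refine ⟨by omega, ⟨i, hi0, h12⟩, ?_, le_antisymm (h.relIndex_le hE le_rfl inf_le_right).1 ?_,
    hXc ▸ h1.trans (l3.trans (center_le_centralizer _))⟩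
  · have := card_subgroup_dvd_card E0
    rwa [hi, show p ^ (2 * i + 1) = p * (n * n) by rw [h12]; ring] at this
  · rw [h12, ← h7, le_antisymm (l3.trans (center_le_centralizer _)) (centralizer_le h0)]
    exact relIndex_le_of_le_right h0 (FiniteIndex.index_ne_zero (H := subgroupOf _ _))

omit [Finite G] in
theorem mem_centralizer_bot (x : G) : x ∈ centralizer ((⊥ : Subgroup G) : Set G) :=
  fun y hy => by rw [mem_bot.1 hy, one_mul, mul_one]

theorem exists_not_mem_centralizer_pCore [Group.IsSolvable G] {x : G}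
    (hx : x ∉ fittingSubgroup G) : ∃ p : ℕ, p.Prime ∧ x ∉ centralizer (pCore p G : Set G) := by
  by_contra hc
  push Not at hc
  refine hx (H1.centralizer_fitting_le (zpowers_le.1 (le_centralizer_iff.1 ?_)))
  rw [H1.fitting_eq_iSup_pCore]
  exact iSup_le fun p => le_centralizer_iff.1 (zpowers_le.2 (hc p p.2))

theorem TrRep.big_prime (h : TrRep ρ) [Group.IsSolvable G] {r : ℕ} (hr : r.Prime)
    (hn : finrank (ZMod q) V < r) (hO : pCore r G = ⊥) (hd : r ∣ Nat.card G) :
    r = finrank (ZMod q) V + 1 ∧ (∃ i, finrank (ZMod q) V = 2 ^ (i + 1)) ∧ q ≠ 2 ∧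
      2 * (finrank (ZMod q) V * finrank (ZMod q) V) ∣ Nat.card G ∧ ¬ r * r ∣ Nat.card G := by
  have := Fact.mk hr
  set n := finrank (ZMod q) V
  have key : ∀ y : G, orderOf y = r → r ≠ 2 ∧ y ∉ centralizer (pCore 2 G : Set G) := by
    intro y hy
    obtain ⟨p, hp, hyp⟩ := exists_not_mem_centralizer_pCore (x := y) fun hF => by
      have h1 := H1.le_pCore_of_le_fitting (p := r) (IsPGroup.of_card (n := 1) (by
        rw [Nat.card_zpowers, hy, pow_one])) (zpowers_le.2 hF)
      rw [hO, zpowers_le, mem_bot] at h1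
      rw [h1, orderOf_one] at hy
      exact hr.one_lt.ne hy
    have := Fact.mk hp
    have hpr : p ≠ r := by
      rintro rfl; exact hyp (hO ▸ mem_centralizer_bot y)
    obtain ⟨E, hE⟩ := exists_crit (G := G) p
    obtain ⟨h1, ⟨i, hi, h2⟩, -⟩ := h.crit_big hr hpr hn hE hy fun hc => hyp
      (hE.mem_centralizer (hy ▸ (Nat.coprime_primes hr hp).2 hpr.symm) hc)
    obtain rfl : p = 2 := by
      by_contra h3
      have h4 : Odd (p ^ i) := (hp.odd_of_ne_two h3).pow
      have h5 : 1 < p ^ i := Nat.one_lt_pow hi.ne' hp.one_lt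
      rw [← h2] at h4 h5
      obtain ⟨m, hm⟩ := h4
      have := hr.eq_two_or_odd
      omega
    exact ⟨hpr.symm, hyp⟩
  obtain ⟨E, hE⟩ := exists_crit (G := G) 2
  have := hE.normal
  obtain ⟨x, hx⟩ := exists_prime_orderOf_dvd_card' r hd
  have hr2 := (key x hx).1
  have key2 : ∀ y : G, orderOf y = r → y ∉ centralizer (E : Set G) := fun y hy hc =>
    (key y hy).2 (hE.mem_centralizer (hy ▸ (Nat.coprime_primes hr Nat.prime_two).2 hr2) hc)
  obtain ⟨h1, ⟨i, hi, h2⟩, h3, h4, -⟩ := h.crit_big hr hr2.symm hn hE hx (key2 x hx)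
  refine ⟨h1, ⟨i - 1, by rwa [Nat.sub_add_cancel hi]⟩, ?_, h3, fun hrr => ?_⟩
  · rintro rfl
    refine h.cast_card_ne_zero hE.isPGroup le_rfl ?_
    rw [ZMod.natCast_eq_zero_iff]
    exact (hE.isPGroup.card_eq_or_dvd).resolve_left fun e =>
      key2 x hx (card_eq_one.1 e ▸ mem_centralizer_bot x)
  · obtain ⟨R, hR⟩ := Sylow.exists_subgroup_card_pow_prime r (n := 2) (by rwa [pow_two])
    have h5 := card_dvd_sub (R := R) (E := E) (Z := centralizer (E : Set G) ⊓ E)
      le_normalizer_of_normal le_normalizer_of_normal inf_le_right fun y hy y1 e he hc => by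
        have h6 : r ∣ orderOf y := by
          obtain ⟨j, -, hj⟩ := (Nat.dvd_prime_pow hr).1 (hR ▸ H1.orderOf_dvd_card_of_mem hy)
          rw [hj]
          exact dvd_pow_self r (by rintro rfl; exact y1 (orderOf_eq_one_iff.1 hj))
        have h7 := orderOf_pow_orderOf_div (orderOf_pos y).ne' h6
        exact ⟨(h.crit_big hr hr2.symm hn hE h7 (key2 _ h7)).2.2.2.2
          ⟨he, mem_centralizer_singleton_iff.2 (hc.pow_left _).symm⟩, he⟩
    rw [← H1.card_inf_mul_relIndex (centralizer (E : Set G)) E, h4, ← Nat.mul_sub_one, hR] at h5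
    have h6 := (H2.coprime_card_of_isPGroup (Q := R) (hR ▸ ((Nat.coprime_primes hr
      Nat.prime_two).2 hr2).pow_left 2) (hE.isPGroup.to_inf_right (H := centralizer (E : Set G))))
    rw [hR] at h6
    have h7 := Nat.le_of_dvd (by
      have : 1 < n := (Nat.one_lt_pow hi.ne' one_lt_two).trans_eq h2.symm
      apply Nat.sub_pos_of_lt; nlinarith) (h6.dvd_of_dvd_mul_left h5)
    have := Nat.sub_le (n * n) 1
    rw [h1] at h7
    nlinarith

omit [Nontrivial V] [Finite V] in
theorem lt_of_primitive {r n : ℕ} (hr : r.Prime) (hn : 0 < n) (hd : r ∣ q ^ n - 1)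
    (hp : ∀ k, k ∣ n → r ∣ q ^ k - 1 → k = n) : n < r := by
  have := Fact.mk hr
  have key : ∀ k, r ∣ q ^ k - 1 ↔ (q : ZMod r) ^ k = 1 := fun k => by
    rw [← ZMod.natCast_eq_zero_iff, Nat.cast_sub (Nat.one_le_pow _ _ hq.out.pos), sub_eq_zero]
    simp
  have h1 := hp _ (orderOf_dvd_of_pow_eq_one ((key n).1 hd)) ((key _).2 (pow_orderOf_eq_one _))
  have h2 : (q : ZMod r) ≠ 0 := fun e => by
    have := (key n).1 hd
    rw [e, zero_pow hn.ne'] at this
    exact zero_ne_one this
  have := Nat.le_of_dvd (Nat.sub_pos_of_lt hr.one_lt) (ZMod.orderOf_dvd_card_sub_one h2)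
  have := hr.pos
  omega

theorem TrRep.primitive (h : TrRep ρ) [Group.IsSolvable G] (hΓ : ¬ Gam ρ) {r : ℕ} (hr : r.Prime)
    (hd : r ∣ q ^ finrank (ZMod q) V - 1)
    (hp : ∀ k, k ∣ finrank (ZMod q) V → r ∣ q ^ k - 1 → k = finrank (ZMod q) V) :
    r = finrank (ZMod q) V + 1 ∧ (∃ i, finrank (ZMod q) V = 2 ^ (i + 1)) ∧ q ≠ 2 ∧
      2 * (finrank (ZMod q) V * finrank (ZMod q) V) ∣ Nat.card G ∧ ¬ r * r ∣ Nat.card G := by
  have := Fact.mk hr
  refine h.big_prime hr (lt_of_primitive hr finrank_V_pos hd hp) ?_ (hd.trans h.card_dvd)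
  by_contra hO
  obtain ⟨k, k1, k2, k3⟩ := h.exists_deg_prime H1.isPGroup_pCore hO
  exact hΓ (k3 (hp k k1 k2))

theorem TrRep.odd_prime (h : TrRep ρ) [Group.IsSolvable G] (hΓ : ¬ Gam ρ) {j : ℕ}
    (hn : finrank (ZMod q) V = 2 ^ (j + 1)) {r : ℕ} (hr : r.Prime) (h2 : r ≠ 2)
    (hd : r ∣ q ^ 2 ^ j + 1) : r = 2 ^ (j + 1) + 1 ∧ ¬ r * r ∣ q ^ 2 ^ j + 1 := by
  have h1 : q ^ 2 ^ j + 1 ∣ q ^ finrank (ZMod q) V - 1 := by
    rw [hn, pow_succ, pow_mul, ← one_pow 2, Nat.sq_sub_sq]
    exact dvd_mul_right _ _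
  obtain ⟨h3, -, -, -, h4⟩ := h.primitive hΓ hr (hd.trans h1) fun k hk hrk => by
    rw [hn] at hk ⊢
    obtain ⟨l, hl, rfl⟩ := (Nat.dvd_prime_pow Nat.prime_two).1 hk
    by_contra hne
    have h5 : l ≤ j := by
      by_contra; exact hne (by rw [show l = j + 1 by omega])
    have h6 := hrk.trans (Nat.pow_sub_one_dvd_pow_sub_one q (pow_dvd_pow 2 h5))
    have h7 := (Nat.dvd_sub_iff_right (by omega) hd).2 h6
    have := Nat.one_le_pow (2 ^ j) q hq.out.pos
    rw [show q ^ 2 ^ j + 1 - (q ^ 2 ^ j - 1) = 2 by omega] at h7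
    exact h2 ((Nat.prime_dvd_prime_iff_eq hr Nat.prime_two).1 h7)
  exact ⟨hn ▸ h3, fun e => h4 ((e.trans h1).trans h.card_dvd)⟩

omit [Finite G] in
theorem comm_of_relIndex {Z D : Subgroup G} (hZ : Z ≤ centralizer (D : Set G))
    (h : Z.relIndex D = 1 ∨ (Z.relIndex D).Prime) : D ≤ centralizer (D : Set G) := by
  rcases h with h | h
  · exact (relIndex_eq_one.1 h).trans hZ
  · have h1 : Z.subgroupOf D ≤ center D := fun z hz => mem_center_iff.2 fun d =>
      Subtype.ext (hZ hz d d.2)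
    have : (Z.subgroupOf D).Normal :=
      ⟨fun x hx g => by rwa [mem_center_iff.mp (h1 hx) g, mul_inv_cancel_right]⟩
    have := Fact.mk h
    have : IsCyclic (D ⧸ Z.subgroupOf D) := isCyclic_of_prime_card (p := Z.relIndex D) rfl
    intro a ha b hb
    exact congrArg Subtype.val ((MonoidHom.isMulCommutative_of_isCyclic_of_ker_le_center
      (QuotientGroup.mk' (Z.subgroupOf D)) (by rwa [QuotientGroup.ker_mk'])).is_comm.comm
      ⟨b, hb⟩ ⟨a, ha⟩)

/-- The structure of the exceptional groups in dimension two. -/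
theorem TrRep.dim_two (h : TrRep ρ) [Group.IsSolvable G] (hΓ : ¬ Gam ρ)
    (hn : finrank (ZMod q) V = 2) :
    (∀ A : Subgroup G, A.Normal → IsMulCommutative A → A ≤ center G) ∧ IsCyclic (center G) ∧
      Nat.card (center G) ∣ q - 1 ∧ q ≠ 2 ∧ ∃ E : Subgroup G, Crit 2 E ∧
        (center G).relIndex E = 4 ∧ centralizer (E : Set G) = center G := by
  have h1 : ∀ A : Subgroup G, A.Normal → IsMulCommutative A →
      A ≤ center G ∧ IsCyclic A ∧ Nat.card A ∣ q - 1 := by
    intro A _ hA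
    obtain ⟨k, k1, k2, k3, -, -, k4, k5⟩ := h.exists_deg A hA
    rw [hn] at k1 k4
    obtain rfl := ((Nat.dvd_prime Nat.prime_two).1 k1).resolve_right
      fun e => hΓ ⟨A, inferInstance, k2, k4 e⟩
    exact ⟨k5 rfl, k2, by simpa using k3⟩
  obtain ⟨-, h2, h3⟩ := h1 (center G) inferInstance inferInstance
  obtain ⟨p, hp, hpc⟩ : ∃ p : ℕ, p.Prime ∧ ¬ pCore p G ≤ center G := by
    by_contra hc
    push Not at hc
    have h4 : fittingSubgroup G ≤ center G := by
      rw [H1.fitting_eq_iSup_pCore]; exact iSup_le fun p => hc p p.2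
    exact hΓ (h.gam_of_centralizer_le _ (IsMulCommutative.of_setLike_mul_comm fun a _ b hb =>
      mem_center_iff.1 (h4 hb) a) H1.centralizer_fitting_le)
  have := Fact.mk hp
  obtain ⟨E, hE⟩ := exists_crit (G := G) p
  have := hE.normal
  have h4 : ¬ E ≤ centralizer (E : Set G) := fun hc => by
    have h5 := (h1 E inferInstance (le_centralizer_iff_isMulCommutative.1 hc)).1
    exact hpc ((le_inf le_rfl fun x _ e he => (mem_center_iff.1 (h5 he) x).symm).trans
      (hE.cent.trans h5))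
  obtain ⟨l1, l2⟩ := h.relIndex_le hE le_rfl inf_le_right
  rw [hn] at l1 l2
  obtain ⟨m, hm⟩ := (hE.isPGroup.index ((centralizer (E : Set G)).subgroupOf E))
  replace hm : (centralizer (E : Set G)).relIndex E = p ^ m := hm
  have h5 : ¬ (p ^ m = 1 ∨ (p ^ m).Prime) := fun e => h4 (comm_of_relIndex le_rfl (hm ▸ e))
  have h6 : p ^ m = 4 := by
    have := pow_pos hp.pos m
    rw [hm] at l1
    generalize p ^ m = N at *
    interval_cases N <;> simp_all [Nat.prime_two, Nat.prime_three]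
  obtain rfl : p = 2 := (Nat.prime_dvd_prime_iff_eq hp Nat.prime_two).1 (hp.dvd_of_dvd_pow
    (n := 2) ((dvd_pow_self p (by rintro rfl; simp at h6)).trans h6.dvd))
  have h7 := le_antisymm (l2 (hm.trans h6)) (center_le_centralizer _)
  refine ⟨fun A hA hA' => (h1 A hA hA').1, h2, h3, ?_, E, hE, h7 ▸ hm.trans h6, h7⟩
  rintro rfl
  refine h.cast_card_ne_zero hE.isPGroup le_rfl ?_
  rw [ZMod.natCast_eq_zero_iff]
  exact (hE.isPGroup.card_eq_or_dvd).resolve_left fun e => h4 (by simp [card_eq_one.1 e])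

theorem eq_one_or_eq_of_isCyclic {Z : Subgroup G} (hc : IsCyclic Z) {z w : G} (hz : z ∈ Z)
    (hw : w ∈ Z) (hz1 : z ≠ 1) (hz2 : z ^ 2 = 1) (hw2 : w ^ 2 = 1) : w = 1 ∨ w = z := by
  classical
  have := Fintype.ofFinite Z
  by_contra hcon
  push Not at hcon
  have h1 := IsCyclic.card_pow_eq_one_le (α := Z) (n := 2) two_pos
  have h2 : ({1, ⟨z, hz⟩, ⟨w, hw⟩} : Finset Z).card = 3 := Finset.card_eq_three.2
    ⟨_, _, _, fun e => hz1 (congrArg Subtype.val e).symm,
      fun e => hcon.1 (congrArg Subtype.val e).symm, fun e => hcon.2 (congrArg Subtype.val e).symm,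
      rfl⟩
  have h3 := Finset.card_le_card (show ({1, ⟨z, hz⟩, ⟨w, hw⟩} : Finset Z) ⊆
      Finset.univ.filter fun a : Z => a ^ 2 = 1 by
    intro a ha
    simp only [Finset.mem_insert, Finset.mem_singleton] at ha
    rcases ha with rfl | rfl | rfl <;> simp [Subtype.ext_iff, hz2, hw2])
  omega

theorem Crit.exists_perm {E : Subgroup G} (hE : Crit 2 E) (hc : IsCyclic (center G))
    (h4 : (center G).relIndex E = 4) (hC : centralizer (E : Set G) = center G) :
    ∃ f : G →* Equiv.Perm (Fin 3), f.ker = E ⊔ center G := by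
  have := hE.normal
  let π := QuotientGroup.mk' (center G)
  have hn : (E.map π).Normal := hE.normal.map π (QuotientGroup.mk'_surjective _)
  let X := (((E.map π : Subgroup (G ⧸ center G)) : Set (G ⧸ center G)) \ {1} : Set _)
  let act : MulAction G X :=
    { smul := fun a k => ⟨π a * k * (π a)⁻¹, hn.conj_mem _ k.2.1 _, fun hk => k.2.2 (by
        simpa [mul_inv_eq_one] using hk)⟩
      one_smul := fun k => Subtype.ext (by change π 1 * k * (π 1)⁻¹ = k; simp)
      mul_smul := fun a b k => Subtype.ext (by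
        change π (a * b) * k * (π (a * b))⁻¹ = π a * (π b * k * (π b)⁻¹) * (π a)⁻¹
        rw [map_mul]; group) }
  have hX : Nat.card X = 3 := by
    rw [Nat.card_coe_set_eq, Set.ncard_sdiff_singleton_of_mem (one_mem _),
      ← Nat.card_coe_set_eq, SetLike.coe_sort_coe, H1.card_map_mk'_eq_relIndex, h4]
  let ε := Finite.equivFinOfCardEq hX
  refine ⟨ε.permCongrHom.toMonoidHom.comp (MulAction.toPermHom G X), ?_⟩
  have hker : ∀ g, g ∈ (ε.permCongrHom.toMonoidHom.comp (MulAction.toPermHom G X)).ker ↔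
      ∀ e ∈ E, ⁅g, e⁆ ∈ center G := by
    intro g
    simp only [MonoidHom.mem_ker, MonoidHom.comp_apply, MulEquiv.coe_toMonoidHom,
      MulEquiv.map_eq_one_iff, Equiv.ext_iff]
    have key : ∀ e, ⁅g, e⁆ ∈ center G ↔ π g * π e * (π g)⁻¹ = π e := fun e => by
      rw [← QuotientGroup.eq_one_iff, ← mul_inv_eq_one (b := π e)]; rfl
    constructor
    · intro h e he
      rw [key]
      by_cases h1 : π e = 1
      · simp [h1]
      · exact congrArg Subtype.val (h ⟨π e, ⟨e, he, rfl⟩, h1⟩)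
    · rintro h ⟨_, ⟨e, he, rfl⟩, h1⟩
      exact Subtype.ext ((key e).1 (h e he))
  set K := (ε.permCongrHom.toMonoidHom.comp (MulAction.toPermHom G X)).ker
  have hEK : E ≤ K := fun a ha => (hker a).2 fun e he => hC ▸ hE.comm a ha e he
  refine le_antisymm (fun g hg => ?_) (sup_le hEK fun a ha => (hker a).2 fun e _ => ?_)
  swap
  · rw [commutatorElement_eq_one_iff_commute.2 (mem_center_iff.1 ha e).symm]; exact one_mem _
  obtain ⟨a, ha, b, hb, hab⟩ : ∃ a ∈ E, ∃ b ∈ E, ⁅a, b⁆ ≠ 1 := by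
    by_contra hcon
    push Not at hcon
    rw [relIndex_eq_one.2 (hC ▸ fun a ha b hb =>
      (commutatorElement_eq_one_iff_commute.1 (hcon b hb a ha)).eq)] at h4
    omega
  have hsq : ∀ g ∈ K, ∀ e ∈ E, ⁅g, e⁆ ^ 2 = 1 := fun g hg e he => by
    rw [← H5.commutator_pow_right (mem_center_iff.1 ((hker g).1 hg e he) e),
      commutatorElement_eq_one_iff_commute]
    exact mem_center_iff.1 (hC ▸ hE.pow e he) g
  have hmul : ∀ g, ∀ k ∈ K, ∀ e ∈ E, ⁅g * k, e⁆ = ⁅k, e⁆ * ⁅g, e⁆ := fun g k hk e he =>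
    H5.commutator_mul_left_of_commute (mem_center_iff.1 ((hker k).1 hk e he) g)
  have h2 : ∀ g ∈ K, ⁅g, a⁆ = 1 → ⁅g, b⁆ = 1 → g ∈ center G := by
    intro g _ h1 h2
    rw [← hC, ← zpowers_le, le_centralizer_iff, zpowers_eq_closure, centralizer_closure]
    have hZ : center G ≤ centralizer {g} := center_le_centralizer _
    have h3 := relIndex_mul_relIndex (center G ⊓ E) (centralizer {g} ⊓ E) E
      (inf_le_inf_right _ hZ) inf_le_right
    rw [inf_relIndex_right, inf_relIndex_right, h4] at h3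
    by_contra hne
    rw [← relIndex_eq_one] at hne
    have h5 := comm_of_relIndex (Z := center G ⊓ E) (D := centralizer {g} ⊓ E)
      (inf_le_left.trans (center_le_centralizer _)) (by
        have := Nat.le_of_dvd (by norm_num) (Dvd.intro _ h3)
        generalize (center G ⊓ E).relIndex (centralizer {g} ⊓ E) = u at *
        interval_cases u <;> simp_all [Nat.prime_two, Nat.prime_three])
    exact hab (commutatorElement_eq_one_iff_commute.2 (h5
      ⟨mem_centralizer_singleton_iff.2 (commutatorElement_eq_one_iff_commute.1 h2).symm, hb⟩ a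
      ⟨mem_centralizer_singleton_iff.2 (commutatorElement_eq_one_iff_commute.1 h1).symm, ha⟩))
  have h3 : ∀ g ∈ K, ⁅g, a⁆ = 1 → g ∈ E ⊔ center G := by
    intro g hg h1
    rcases eq_one_or_eq_of_isCyclic hc ((hker a).1 (hEK ha) b hb) ((hker g).1 hg b hb) hab
      (hsq a (hEK ha) b hb) (hsq g hg b hb) with e | e
    · exact mem_sup_right (h2 g hg h1 e)
    · have := h2 (a * g) (K.mul_mem (hEK ha) hg) (by rw [hmul a g hg a ha, h1]; simp)
        (by rw [hmul a g hg b hb, e, ← pow_two, hsq a (hEK ha) b hb])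
      simpa using mul_mem (mem_sup_left (inv_mem ha)) (mem_sup_right (S := E) this)
  have hba : ⁅b, a⁆ ≠ 1 := fun e => hab (by rw [← commutatorElement_inv, e, inv_one])
  rcases eq_one_or_eq_of_isCyclic hc ((hker b).1 (hEK hb) a ha) ((hker g).1 hg a ha) hba
    (hsq b (hEK hb) a ha) (hsq g hg a ha) with e | e
  · exact h3 g hg e
  · have := h3 (b * g) (K.mul_mem (hEK hb) hg)
      (by rw [hmul b g hg a ha, e, ← pow_two, hsq b (hEK hb) a ha])
    simpa using mul_mem (mem_sup_left (inv_mem hb)) this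

theorem three_pow_gt {m : ℕ} (hm : 3 ≤ m) : 4 * m + 1 < 3 ^ m := by
  induction m, hm using Nat.le_induction with
  | base => norm_num
  | succ m _ ih => rw [pow_succ]; omega

/-- Huppert's theorem. -/
theorem TrRep.huppert (h : TrRep ρ) [Group.IsSolvable G] (hΓ : ¬ Gam ρ) :
    (finrank (ZMod q) V = 2 ∧ (q = 3 ∨ q = 5 ∨ q = 7 ∨ q = 11 ∨ q = 23)) ∨
      (finrank (ZMod q) V = 4 ∧ q = 3 ∧ 32 ∣ Nat.card G) := by
  have hn := finrank_V_pos (q := q) (V := V)
  by_cases h1 : finrank (ZMod q) V = 1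
  · obtain ⟨k, k1, k2, -, -, -, k3, -⟩ := h.exists_deg ⊥ inferInstance
    exact (hΓ ⟨⊥, inferInstance, k2, k3 (by rw [h1] at k1 ⊢; exact Nat.dvd_one.1 k1)⟩).elim
  by_cases h2 : finrank (ZMod q) V = 2
  · obtain ⟨-, hc, h3, h4, E, hE, h5, h6⟩ := h.dim_two hΓ h2
    obtain ⟨f, hf⟩ := hE.exists_perm hc h5 h6
    have h7 : (center G).index ∣ 24 := by
      rw [← relIndex_mul_index (le_sup_right : center G ≤ E ⊔ center G), relIndex_sup_right, h5,
        ← hf, index_ker]
      exact Nat.mul_dvd_mul_left 4 ((card_subgroup_dvd_card f.range).trans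
        (by rw [Nat.card_perm, Nat.card_fin]))
    have h8 := h.card_dvd
    rw [h2, ← one_pow 2, Nat.sq_sub_sq, ← (center G).index_mul_card] at h8
    have h9 := Nat.dvd_of_mul_dvd_mul_right (Nat.sub_pos_of_lt hq.out.one_lt)
      (h8.trans (Nat.mul_dvd_mul h7 h3))
    have h10 := Nat.le_of_dvd (by norm_num) h9
    have h11 := hq.out
    refine Or.inl ⟨h2, ?_⟩
    clear h8 h7 hf h5 h6 hE h3 hc h2 h1 hn hΓ h
    have : q ≤ 23 := by omega
    interval_cases q <;> simp_all (config := {decide := true})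
  by_cases h6 : q = 2 ∧ finrank (ZMod q) V = 6
  · exfalso
    obtain ⟨rfl, h6⟩ := h6
    have := Fact.mk (by norm_num : Nat.Prime 7)
    have hO : pCore 7 G ≠ ⊥ := fun hO => by
      exact (h.big_prime (by norm_num : Nat.Prime 7) (by omega) hO
        ((by rw [h6]; norm_num : 7 ∣ 2 ^ finrank (ZMod 2) V - 1).trans h.card_dvd)).2.2.1 rfl
    obtain ⟨z, z1, z2, z3⟩ := H5.exists_mem_centralizer_orderOf_eq H1.isPGroup_pCore le_rfl
      le_normalizer hO
    obtain ⟨A, _, hA, a1, a2⟩ := H5.exists_maximal_normal_abelian _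
      (isMulCommutative_inf_centralizer (pCore 7 G))
    obtain ⟨k, k1, k2, k3, -, -, k4, -⟩ := h.exists_deg A hA
    have a3 : 7 ∣ Nat.card A := z3 ▸ H1.orderOf_dvd_card_of_mem (a1 ⟨z1, z2⟩)
    have a4 : Nat.card A = 7 := by
      rw [h6] at k1 k4
      have := Nat.le_of_dvd (by norm_num) k1
      have a5 := a3.trans k3
      have : k ≠ 6 := fun e => hΓ ⟨A, inferInstance, k2, k4 e⟩
      have hk := Nat.pos_of_dvd_of_pos k1 (by norm_num)
      obtain rfl : k = 3 := by interval_cases k <;> omega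
      exact Nat.dvd_antisymm k3 a3
    have a5 : ∀ p : ℕ, p.Prime → pCore p G ≤ A := by
      intro p hp
      have := Fact.mk hp
      have b1 : pCore p G ≤ centralizer (A : Set G) := by
        rw [← eq_of_le_of_card_ge a1 ((a4.trans z3.symm).trans_le (Nat.le_of_dvd Nat.card_pos
          (H1.orderOf_dvd_card_of_mem (mem_inf.2 ⟨z1, z2⟩))))]
        by_cases e : p = 7
        · rw [e]; exact le_centralizer_iff.1 inf_le_right
        · exact ((H1.pCore_le_pPrimeCore ((Nat.coprime_primes hp (by norm_num)).2 e)).trans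
            H1.pPrimeCore_le_centralizer_pCore).trans (centralizer_le inf_le_left)
      obtain ⟨E, hE⟩ := exists_crit (G := G) p
      have := hE.normal
      have b2 : E ⊓ centralizer (E : Set G) ≤ A := by
        refine le_sup_right.trans (a2 (A ⊔ E ⊓ centralizer (E : Set G)) inferInstance ?_
          le_sup_left).le
        rw [← le_centralizer_iff_isMulCommutative]
        refine sup_le ?_ ?_ <;> rw [le_centralizer_iff] <;> refine sup_le ?_ ?_
        · exact le_centralizer A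
        · exact inf_le_left.trans (hE.le.trans b1)
        · exact le_centralizer_iff.1 (inf_le_left.trans (hE.le.trans b1))
        · exact le_centralizer_iff_isMulCommutative.2 (isMulCommutative_inf_centralizer E)
      by_cases b3 : E ≤ centralizer (E : Set G)
      · have b4 := (le_inf le_rfl b3).trans b2
        exact (le_inf le_rfl (b1.trans (centralizer_le b4))).trans (hE.cent.trans b4)
      exfalso
      obtain ⟨w, w1, w2, w3⟩ := H5.exists_mem_centralizer_orderOf_eq hE.isPGroup le_rfl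
        le_normalizer (by rintro rfl; exact b3 bot_le)
      obtain rfl : p = 7 := (Nat.prime_dvd_prime_iff_eq hp (by norm_num)).1
        (a4 ▸ w3 ▸ H1.orderOf_dvd_card_of_mem (b2 ⟨w1, w2⟩))
      have l1 := (h.relIndex_le hE le_rfl inf_le_right).1
      obtain ⟨m, hm⟩ := (hE.isPGroup.index ((centralizer (E : Set G)).subgroupOf E))
      replace hm : (centralizer (E : Set G)).relIndex E = 7 ^ m := hm
      refine b3 (comm_of_relIndex le_rfl ?_)
      rw [hm, h6] at l1
      rw [hm]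
      rcases m with _ | _ | m
      · exact Or.inl rfl
      · exact Or.inr hp
      · have := Nat.one_le_pow m 7 (by norm_num)
        rw [pow_succ, pow_succ] at l1
        omega
    have a6 : fittingSubgroup G ≤ A := by
      rw [H1.fitting_eq_iSup_pCore]; exact iSup_le fun p => a5 p p.2
    exact hΓ (h.gam_of_centralizer_le _ (IsMulCommutative.of_setLike_mul_comm fun a ha b hb =>
      setLike_mul_comm (a6 ha) (a6 hb)) H1.centralizer_fitting_le)
  obtain ⟨r, hr, r1, r2⟩ := H69.Zsig.zsigmondy hq.out.one_lt (by omega) h6 (fun e => h2 e.1)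
  obtain ⟨-, ⟨j, hj⟩, hq2, h7, -⟩ := h.primitive hΓ hr r1 fun k k1 k2 => by
    by_contra hne
    exact r2 k (Nat.pos_of_dvd_of_pos k1 hn) (lt_of_le_of_ne (Nat.le_of_dvd hn k1) hne) k2
  obtain ⟨j, rfl⟩ : ∃ i, j = i + 1 := ⟨j - 1, by
    rcases j with _ | j
    · exact (h2 hj).elim
    · rfl⟩
  have hodd : Odd (q ^ 2 ^ j) := (hq.out.odd_of_ne_two hq2).pow
  obtain ⟨t, ht⟩ := hodd
  have h8 : q ^ 2 ^ (j + 1) + 1 = 2 * (2 * (t * t + t) + 1) := by
    rw [pow_succ, pow_mul, ht]; ring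
  have h9 : 2 * (t * t + t) + 1 ≤ 2 ^ (j + 1 + 1) + 1 := by
    have key := fun r hr h2 hd => h.odd_prime hΓ hj (r := r) hr h2 hd
    rw [h8] at key
    have hodd : ∀ r, r ∣ 2 * (t * t + t) + 1 → r ≠ 2 := by rintro r hr rfl; omega
    generalize 2 * (t * t + t) + 1 = N at *
    by_cases hN : N = 1
    · rw [hN]; exact Nat.le_add_left _ _
    obtain ⟨r, hr, M, rfl⟩ := Nat.exists_prime_and_dvd hN
    obtain ⟨e1, e2⟩ := key r hr (hodd r (dvd_mul_right _ _)) ((dvd_mul_right _ _).mul_left _)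
    by_cases hM : M = 1
    · rw [hM, mul_one, e1]
    obtain ⟨s, hs, hsM⟩ := Nat.exists_prime_and_dvd hM
    obtain ⟨e3, -⟩ := key s hs (hodd s (hsM.mul_left _)) ((hsM.mul_left _).mul_left _)
    exact (e2 ((Nat.mul_dvd_mul_left r ((e1.trans e3.symm) ▸ hsM)).mul_left _)).elim
  have hq3 : 3 ≤ q := by have := hq.out.two_le; omega
  have h10 : 3 ^ 2 ^ (j + 1) ≤ q ^ 2 ^ (j + 1) := Nat.pow_le_pow_left hq3 _
  obtain rfl : j = 0 := by
    by_contra hj0
    have h11 : 2 ^ 2 ≤ 2 ^ (j + 1) := Nat.pow_le_pow_right two_pos (by omega)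
    have := three_pow_gt (m := 2 ^ (j + 1)) (by omega)
    rw [pow_succ 2 (j + 1)] at h9
    omega
  refine Or.inr ⟨hj, ?_, by rwa [hj] at h7⟩
  norm_num at h8 h9
  nlinarith

end H82
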